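import Groth.Agent.UnipGaLib.Exp
import Groth.Agent.VecGrpLib.WLWound
import Groth.Agent.SepRadLib.Descent
import Groth.Agent.HopfFFLib.Consequences
import Groth.Agent.SemiAbLib.TorusOrGa
import Groth.Agent.AlbNormLib.Rosen
import Groth.Agent.ChevThmLib.GAffQuot
import Groth.Agent.BorelLib.RedUnip
import Groth.Agent.S8061

/-!
Nonreductive groups over perfect fields contain the additive group.
-/

set_option autoImplicit false
set_option linter.style.haveILetI false
set_option linter.unusedSectionVars false
set_option backward.isDefEq.respectTransparency false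
set_option maxHeartbeats 1600000
set_option synthInstance.maxHeartbeats 400000

noncomputable section

universe u

open CategoryTheory CategoryTheory.Limits MonoidalCategory CartesianMonoidalCategory AlgebraicGeometry
open scoped MonObj TensorProduct
open Groth.Agent
open CoactBr (sp pt)
open Groth.Agent.BorelLib (IsUni ptsSub ptEquiv Pt)

attribute [-instance] CategoryTheory.Hom.commGroup
attribute [local instance] BorelLib.pTop BorelLib.pTopTensor

namespace Groth.Agent.UnipGa

variable {k : Type u} [Field k]

/-- A nontrivial unipotent group over an algebraically closed field contains the additive group. -/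
theorem exists_ga_closed [IsAlgClosed k] (U : Over (Spec (CommRingCat.of k))) [GrpObj U] [IsAffine U.left]
    [Smooth U.hom] [ConnectedSpace U.left] (hno : Red.HasNoSubtorus k U) (hne : ¬ Red.IsTrivialGrp U) :
    ∃ j : Red.Ga (Spec (CommRingCat.of k)) ⟶ U, IsMonHom j ∧ IsClosedImmersion j.left := by
  obtain ⟨A, _, _, v, hv, hA, -⟩ := BorelLib.exists_setup U
  haveI := hv; haveI := hA
  haveI : QuasiCompact U.hom := inferInstance
  haveI : IsClosedImmersion (𝟙 U : U ⟶ U).left := inferInstanceAs (IsClosedImmersion (𝟙 U.left))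
  have hu := BorelLib.uni_of_hasNoSubtorus v (𝟙 U) hno
  rw [BorelLib.ptsSub_id] at hu
  by_cases hbot : (⊤ : Subgroup (Pt k A)) = ⊥
  · refine (hne (ChevThmLib.isIso_of_finite_points ((Set.finite_singleton 1).subset fun a _ => ?_))).elim
    have h1 : (ptEquiv v).symm a ∈ (⊥ : Subgroup (Pt k A)) := hbot ▸ Subgroup.mem_top _
    rw [Subgroup.mem_bot] at h1
    exact Set.mem_singleton_iff.2 ((ptEquiv v).symm.injective (h1.trans (map_one _).symm))
  · have hKc : IsClosed ((⊤ : Subgroup (Pt k A)) : Set (Pt k A)) := by rw [Subgroup.coe_top]; exact isClosed_univ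
    have hK : _root_.IsPreconnected ((⊤ : Subgroup (Pt k A)) : Set (Pt k A)) := by
      rw [Subgroup.coe_top]; exact BorelLib.isPreconnected_univ_of_connected v
    obtain ⟨n, -, hDne, hDp, -, hDcomm⟩ := BorelLib.exists_comm_normal hKc hK (fun _ => le_top)
      (BorelLib.isSol_of_uni hKc hK hu) hbot
    obtain ⟨C, _, j, hj, hjc, hjs, hpts, hCc, -⟩ := BorelLib.exists_scheme_sub v (BorelLib.isClosed_clSub _)
    haveI := hj; haveI := hjc; haveI := hjs
    haveI := hCc hDp
    haveI : Mono j := Over.mono_of_mono_left j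
    haveI : IsAffine C.left := isAffine_of_isAffineHom j.left
    haveI : IsCommMonObj C := AlbNormLib.isCommMonObj_of_points C fun a b => by
      rw [← cancel_mono j, MonObj.mul_comp, MonObj.mul_comp]
      refine (ptEquiv v).symm.injective ?_
      rw [map_mul, map_mul]
      exact hDcomm _ (hpts ▸ ⟨a, ((ptEquiv v).apply_symm_apply _).symm⟩) _
        (hpts ▸ ⟨b, ((ptEquiv v).apply_symm_apply _).symm⟩)
    rcases SemiAbLib.isTorus_or_exists_ga C with hT | ⟨a, ha, hac⟩
    · exact (hDne (hpts ▸ BorelLib.ptsSub_of_trivial v (hno C j hT))).elim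
    · haveI := ha; haveI := hac
      exact ⟨a ≫ j, inferInstance, by rw [Over.comp_left]; infer_instance⟩

/-- A nontrivial unipotent group over a field of characteristic zero contains the additive group. -/
theorem exists_ga_charZero [CharZero k] (U : Over (Spec (CommRingCat.of k))) [GrpObj U] [IsAffine U.left]
    [Smooth U.hom] [ConnectedSpace U.left]
    (hunip : ∀ s : ↥(Spec (CommRingCat.of k)),
      Red.HasNoSubtorus (AlgebraicClosure ((Spec (CommRingCat.of k)).residueField s)) (Red.geomFibre s U))
    (hne : ¬ Red.IsTrivialGrp U) :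
    ∃ j : Red.Ga (Spec (CommRingCat.of k)) ⟶ U, IsMonHom j ∧ IsClosedImmersion j.left := by
  obtain ⟨A, _, _, v, hv, hA, hgr, hK⟩ := Groth.Agent.VecGrp.exists_unip U hunip
  haveI := hv; haveI := hA
  haveI : IsIso v.hom.left := ((Over.forget _).mapIso v).isIso_hom
  haveI := AlbLib.geometricallyIntegral_grp U
  haveI : IsIntegral U.left := GeometricallyIntegral.isIntegral_of_subsingleton U.hom
  haveI : IsIntegral (Spec (CommRingCat.of A)) :=
    haveI : Nonempty (sp k A).left := Nonempty.map (v.inv.left ·) inferInstance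
    (isIntegral_of_isOpenImmersion v.hom.left : IsIntegral (sp k A).left)
  haveI : IsDomain A := (affine_isIntegral_iff (CommRingCat.of A)).mp ‹_›
  haveI : IsNoetherianRing A := Algebra.FiniteType.isNoetherianRing k A
  have hne' : RingHom.ker (Bialgebra.counitAlgHom k A) ≠ ⊥ := fun h => by
    refine hne ?_
    have hbij : Function.Bijective (algebraMap k A) := ⟨(algebraMap k A).injective, fun a =>
      ⟨Bialgebra.counitAlgHom k A a, (RingHom.injective_iff_ker_eq_bot _).2 h (AlgHom.commutes _ _)⟩⟩
    haveI : IsIso (CommRingCat.ofHom (algebraMap k A)) :=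
      (RingEquiv.ofBijective (algebraMap k A) hbij).toCommRingCatIso.isIso_hom
    haveI : IsIso (sp k A).hom := inferInstanceAs (IsIso (Spec.map (CommRingCat.ofHom (algebraMap k A))))
    haveI : IsIso v.inv.left := ((Over.forget _).mapIso v).isIso_inv
    show IsIso U.hom
    rw [← Over.w v.inv]
    infer_instance
  obtain ⟨ψ, hψ⟩ := exists_ga_algHom (IsNoetherian.noetherian _) hne' hK
  haveI : IsMonHom (pt (R := k) (ψ : A →ₐ[k] SymmetricAlgebra k k)) := SekSuwa.isMonHom_specHom ψ
  haveI := Groth.Agent.VecGrp.isClosedImmersion_pt (k := k) (ψ : A →ₐ[k] SymmetricAlgebra k k) hψ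
  haveI : IsMonHom (inv (SemiAbLib.toGa k)) := inferInstanceAs (IsMonHom (asIso (SemiAbLib.toGa k)).inv)
  haveI : IsIso (inv (SemiAbLib.toGa k)).left := ((Over.forget _).mapIso (asIso (SemiAbLib.toGa k))).isIso_inv
  refine ⟨inv (SemiAbLib.toGa k) ≫ pt (R := k) (ψ : A →ₐ[k] SymmetricAlgebra k k) ≫ v.hom, inferInstance, ?_⟩
  show IsClosedImmersion ((inv (SemiAbLib.toGa k)).left ≫ (pt (R := k) (ψ : A →ₐ[k] SymmetricAlgebra k k)).left ≫ v.hom.left)
  infer_instance

/-- A unipotent group over a perfect field of positive characteristic which is nontrivial over an algebraically closed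
extension contains the additive group. -/
theorem exists_ga_charP [PerfectField k] (p : ℕ) [Fact p.Prime] [CharP k p]
    (U : Over (Spec (CommRingCat.of k))) [GrpObj U] [IsAffine U.left] [Smooth U.hom] [ConnectedSpace U.left]
    (hunip : ∀ s : ↥(Spec (CommRingCat.of k)),
      Red.HasNoSubtorus (AlgebraicClosure ((Spec (CommRingCat.of k)).residueField s)) (Red.geomFibre s U))
    (K : Type u) [Field K] [IsAlgClosed K] [Algebra k K]
    (hne : ¬ Red.IsTrivialGrp (Red.bc (DiagRep.baseHom k K) U)) :
    ∃ j : Red.Ga (Spec (CommRingCat.of k)) ⟶ U, IsMonHom j ∧ IsClosedImmersion j.left := by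
  by_contra hno
  haveI : Algebra.IsGeometricallyReduced k K := HopfFF.isGeometricallyReduced_of_perfectField K
  have hW := Groth.Agent.VecGrp.isWd_of_no_Ga p U hunip fun ⟨j, hj, hjc, _⟩ => hno ⟨j, hj, hjc⟩
  have hWK := Groth.Agent.VecGrp.isWd_bc p U hunip K hW
  let f := DiagRep.baseHom k K
  haveI : IsAffineHom U.hom := isAffineHom_of_isAffine U.hom
  haveI : Smooth (Red.bc f U).hom := inferInstanceAs (Smooth (pullback.snd U.hom f))
  haveI : IsAffineHom (Red.bc f U).hom := inferInstanceAs (IsAffineHom (pullback.snd U.hom f))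
  haveI : IsAffine (Red.bc f U).left := isAffine_of_isAffineHom (Red.bc f U).hom
  haveI := SepRad.connectedSpace_bc U f
  obtain ⟨j, hj, hjc⟩ := exists_ga_closed (Red.bc f U) (SepRad.hasNoSubtorus_bc U hunip K f) hne
  haveI := hjc
  haveI : Mono j := Over.mono_of_mono_left j
  obtain ⟨c, hc⟩ := hWK j
  exact Groth.Agent.VecGrp.not_const_of_mono j c hc

/-- A unipotent normal subgroup over an algebraically closed extension gives an additive subgroup. -/
theorem exists_ga_of_bc [PerfectField k] (G : Over (Spec (CommRingCat.of k))) [GrpObj G]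
    [IsAffine G.left] [Smooth G.hom] [ConnectedSpace G.left] (K : Type u) [Field K] [IsAlgClosed K] [Algebra k K]
    (t : Spec (CommRingCat.of K) ⟶ Spec (CommRingCat.of k))
    (ht : t = Spec.map (CommRingCat.ofHom (algebraMap k K)))
    {L' : Over (Spec (CommRingCat.of K))} [GrpObj L'] (l' : L' ⟶ Red.bc t G) [IsMonHom l']
    [IsClosedImmersion l'.left] [Smooth L'.hom] [ConnectedSpace L'.left] (hn : AlgGrp.IsNormalHom l')
    (hT : Red.HasNoSubtorus K L') (hne : ¬ Red.IsTrivialGrp L') :
    ∃ j : Red.Ga (Spec (CommRingCat.of k)) ⟶ G, IsMonHom j ∧ IsClosedImmersion j.left := by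
  subst ht
  haveI : Algebra.IsGeometricallyReduced k K := HopfFF.isGeometricallyReduced_of_perfectField K
  haveI : IsAffine L'.left := by
    haveI : IsAffineHom G.hom := isAffineHom_of_isAffine G.hom
    haveI : IsAffineHom (Red.bc (Spec.map (CommRingCat.ofHom (algebraMap k K))) G).hom :=
      inferInstanceAs (IsAffineHom (pullback.snd G.hom _))
    haveI : IsAffine (Red.bc (Spec.map (CommRingCat.ofHom (algebraMap k K))) G).left :=
      isAffine_of_isAffineHom (Red.bc (Spec.map (CommRingCat.ofHom (algebraMap k K))) G).hom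
    exact isAffine_of_isAffineHom l'.left
  obtain ⟨H, _, i, φ, hi, hic, hsm, hqc, hconn, -, hφ, hH⟩ :=
    SepRad.exists_unip_over_base l' hn fun s => BorelLib.hasNoSubtorus_geom s hT
  haveI := hi; haveI := hic; haveI := hsm; haveI := hconn
  haveI : IsAffine H.left := isAffine_of_isAffineHom i.left
  haveI : Mono l' := Over.mono_of_mono_left l'
  have hneK : ¬ Red.IsTrivialGrp (Red.bc (DiagRep.baseHom k K) H) := fun h => hne (BorelLib.isTrivialGrp_iff.2 (by
    haveI : IsIso (Red.bc (Spec.map (CommRingCat.ofHom (algebraMap k K))) H).hom := h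
    have he : ∀ {W : Over (Spec (CommRingCat.of K))}
        (a b : W ⟶ Red.bc (Spec.map (CommRingCat.ofHom (algebraMap k K))) H), a = b := fun a b => Over.OverMorphism.ext (by
      rw [← cancel_mono (Red.bc (Spec.map (CommRingCat.ofHom (algebraMap k K))) H).hom, Over.w a, Over.w b])
    rw [← cancel_mono l', Category.id_comp, ← hφ, ← Category.assoc]
    congr 1
    exact he _ _))
  obtain ⟨j, hj, hjc⟩ : ∃ j : Red.Ga (Spec (CommRingCat.of k)) ⟶ H, IsMonHom j ∧ IsClosedImmersion j.left := by
    obtain ⟨q, hq⟩ := CharP.exists k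
    rcases CharP.char_is_prime_or_zero k q with hp | h0
    · haveI := Fact.mk hp
      exact exists_ga_charP q H (fun s => (hH s).2) K hneK
    · subst h0
      haveI : CharZero k := CharP.charP_to_charZero k
      refine exists_ga_charZero H (fun s => (hH s).2) fun h => hneK ?_
      haveI : IsIso H.hom := h
      exact inferInstanceAs (IsIso (pullback.snd H.hom (DiagRep.baseHom k K)))
  haveI := hj; haveI := hjc
  exact ⟨j ≫ i, inferInstance, by rw [Over.comp_left]; infer_instance⟩

/-- A connected smooth affine group which is not reductive over a perfect field contains the additive group. -/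
theorem exists_ga_of_not_isReductive [PerfectField k] (G : Over (Spec (CommRingCat.of k))) [GrpObj G]
    [IsAffine G.left] [Smooth G.hom] [ConnectedSpace G.left] (hnr : ¬ Red.IsReductive G) :
    ∃ j : Red.Ga (Spec (CommRingCat.of k)) ⟶ G, IsMonHom j ∧ IsClosedImmersion j.left := by
  obtain ⟨s, hs⟩ : ∃ s, ¬ Red.IsReductiveOver (AlgebraicClosure ((Spec (CommRingCat.of k)).residueField s))
      (Red.geomFibre s G) := by
    by_contra! h
    exact hnr ⟨isAffineHom_of_isAffine G.hom, inferInstance, h⟩
  obtain ⟨haff, hsm, hconn⟩ := BorelLib.geom_facts s G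
  obtain ⟨L', _, l', hl', hlc, hls, hlC, hln, hlT, hne⟩ : ∃ (U : Over (Spec (CommRingCat.of
      (AlgebraicClosure ((Spec (CommRingCat.of k)).residueField s))))) (_ : GrpObj U) (i : U ⟶ Red.geomFibre s G)
      (_ : IsMonHom i), IsClosedImmersion i.left ∧ Smooth U.hom ∧ ConnectedSpace U.left ∧ AlgGrp.IsNormalHom i ∧
      Red.HasNoSubtorus _ U ∧ ¬ Red.IsTrivialGrp U := by
    by_contra! h
    exact hs ⟨haff, hsm, hconn, fun U _ i _ h1 h2 h3 h4 h5 => h U inferInstance i inferInstance h1 h2 h3 h4 h5⟩
  obtain ⟨algK, -, hσ⟩ := BorelLib.exists_geomPt_algebra s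
  letI : Algebra k (AlgebraicClosure ((Spec (CommRingCat.of k)).residueField s)) := algK
  haveI := hl'; haveI := hlc; haveI := hls; haveI := hlC
  exact exists_ga_of_bc G _ (Red.geomPt s) hσ l' hln hlT hne

end Groth.Agent.UnipGa
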