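import Groth.Agent.UnipHopfLib.Points
import Groth.Agent.S8738
import Mathlib.RingTheory.Bialgebra.SymmetricAlgebra
import Mathlib.RingTheory.PolynomialAlgebra

/-!
One-parameter subgroups of unipotent groups in characteristic zero.
-/

set_option autoImplicit false
set_option linter.style.haveILetI false

noncomputable section

universe u

open TensorProduct HopfRep WithConv
open scoped ComodLib
open Groth.Agent

namespace Groth.Agent.UnipGa

variable {k : Type u} [Field k] {A : Type u} [CommRing A] [Bialgebra k A]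

local notation "𝔸" => ComodLib.Dual' k A
local notation "ε" => Bialgebra.counitAlgHom k A

/-- A nonzero point derivation at the unit. -/
theorem exists_derFun [IsDomain A] (hfg : (RingHom.ker ε).FG) (hne : RingHom.ker ε ≠ ⊥) :
    ∃ x : A →ₗ[k] k, x ≠ 0 ∧ x 1 = 0 ∧ ∀ a b, x (a * b) = ε a * x b + x a * ε b := by
  set I := RingHom.ker ε with hI
  have h2 : I * I ≠ I := fun h => by
    obtain ⟨e, he, heI⟩ := (Ideal.isIdempotentElem_iff_of_fg I hfg).1 h
    rcases IsIdempotentElem.iff_eq_zero_or_one.1 he with rfl | rfl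
    · exact hne (by simpa using heI)
    · have h1 : (1 : A) ∈ RingHom.ker ε := by
        rw [← hI, heI]; exact Ideal.mem_span_singleton_self 1
      rw [RingHom.mem_ker, map_one] at h1
      exact one_ne_zero h1
  obtain ⟨a₀, ha, ha'⟩ := SetLike.exists_of_lt (lt_of_le_of_ne (Ideal.mul_le_right (I := I) (J := I)) h2)
  obtain ⟨f, hf, hle⟩ := Submodule.exists_le_ker_of_notMem (p := (I * I).restrictScalars k) ha'
  let pr : A →ₗ[k] A := LinearMap.id - Algebra.linearMap k A ∘ₗ (ε).toLinearMap
  have hpr : ∀ a, pr a = a - algebraMap k A (ε a) := fun a => rfl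
  have hmem : ∀ a, pr a ∈ I := fun a => by
    rw [hI, RingHom.mem_ker, hpr, map_sub, AlgHom.commutes, Algebra.algebraMap_self, RingHom.id_apply, sub_self]
  refine ⟨f ∘ₗ pr, fun h => hf ?_, ?_, fun a b => ?_⟩
  · have h1 := LinearMap.congr_fun h a₀
    rw [LinearMap.comp_apply, hpr, show ε a₀ = 0 from ha, map_zero, sub_zero] at h1
    exact h1
  · rw [LinearMap.comp_apply, hpr, map_one, map_one, sub_self, map_zero]
  · have h3 : pr a * pr b ∈ LinearMap.ker f := hle (Ideal.mul_mem_mul (hmem a) (hmem b))
    have h4 : pr (a * b) = pr a * pr b + (ε a) • pr b + (ε b) • pr a := by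
      simp only [hpr, map_mul, Algebra.smul_def]
      ring
    rw [LinearMap.comp_apply, h4, map_add, map_add, LinearMap.mem_ker.1 h3, zero_add, map_smul, map_smul,
      smul_eq_mul, smul_eq_mul, LinearMap.comp_apply, LinearMap.comp_apply, mul_comm (f (pr a))]

theorem slice_mul {x : A →ₗ[k] k} (hx : ∀ a b, x (a * b) = ε a * x b + x a * ε b) (P Q : A ⊗[k] A) :
    ComodLib.slice x (P * Q) = ComodLib.slice (ε).toLinearMap P * ComodLib.slice x Q +
      ComodLib.slice x P * ComodLib.slice (ε).toLinearMap Q := by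
  induction P using TensorProduct.induction_on with
  | zero => simp
  | add P P' hP hP' => simp only [add_mul, map_add, hP, hP']; ring
  | tmul a b =>
    induction Q using TensorProduct.induction_on with
    | zero => simp
    | add Q Q' hQ hQ' => simp only [mul_add, map_add, hQ, hQ']; ring
    | tmul c d =>
      simp only [Algebra.TensorProduct.tmul_mul_tmul, ComodLib.slice_tmul, AlgHom.toLinearMap_apply, hx,
        Algebra.smul_def, map_add, map_mul]
      ring

theorem slice_counit_comul (a : A) :
    ComodLib.slice (ε).toLinearMap (CoalgebraStruct.comul (R := k) a) = a :=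
  ComodLib.slice_counit (A := A) (V := A) a

/-- A nontrivial point of a unipotent group in characteristic zero. -/
theorem exists_point [CharZero k] (hK : ∀ a : A, ∃ n, a ∈ UnipHopf.K k A n) {x : A →ₗ[k] k} (hx0 : x ≠ 0)
    (hx1 : x 1 = 0) (hx : ∀ a b, x (a * b) = ε a * x b + x a * ε b) :
    ∃ g : A →ₐ[k] k, g ≠ ε := by
  classical
  let D₀ : A →ₗ[k] A := ComodLib.slice x ∘ₗ CoalgebraStruct.comul
  have hD₀ : ∀ a : A, D₀ a = (toConv x : 𝔸) • a := fun a => (ComodLib.smul_eq _ a).symm
  let D : Derivation k A A := Derivation.mk' D₀ fun a b => by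
    show ComodLib.slice x (CoalgebraStruct.comul (R := k) (a * b)) = _
    rw [Bialgebra.comul_mul, slice_mul hx, slice_counit_comul, slice_counit_comul, smul_eq_mul, smul_eq_mul,
      mul_comm (ComodLib.slice x _) b]
    rfl
  have hiter : ∀ (i : ℕ) (a : A), D^[i] a = (toConv x : 𝔸) ^ i • a := by
    intro i
    induction i with
    | zero => intro a; rw [pow_zero, one_smul]; rfl
    | succ i ih => intro a; rw [Function.iterate_succ_apply', ih, pow_succ', mul_smul]; exact hD₀ _
  have hεD : ∀ b : A, ε (D b) = x b := fun b => by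
    rw [show D b = D^[1] b from rfl, hiter, pow_one]
    exact ComodLib.counit_smul _ _
  have hx1' : (toConv x : 𝔸) (1 : A) = 0 := hx1
  let F : A →+* PowerSeries k := (PowerSeries.map (ε).toRingHom).comp (S8738.expHom D)
  have hF : ∀ (n : ℕ) (a : A), PowerSeries.coeff n (F a) = (n.factorial : k)⁻¹ * ε (D^[n] a) := fun n a => by
    show PowerSeries.coeff n (PowerSeries.map (ε).toRingHom (S8738.expD D a)) = _
    rw [PowerSeries.coeff_map, S8738.expD, PowerSeries.coeff_mk]
    show ε _ = _
    rw [map_mul, AlgHom.commutes, Algebra.algebraMap_self, RingHom.id_apply]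
  have hpoly : ∀ a, ∃ p : Polynomial k, (p : PowerSeries k) = F a := fun a => by
    obtain ⟨N, hN⟩ := hK a
    refine ⟨PowerSeries.trunc N (F a), PowerSeries.ext fun n => ?_⟩
    rw [Polynomial.coeff_coe, PowerSeries.coeff_trunc]
    split_ifs with h
    · rfl
    · have h0 := UnipHopf.pow_smul_mem_K _ hx1' n 0 a (UnipHopf.K_mono (by omega) hN)
      rw [UnipHopf.K_zero, Submodule.mem_bot] at h0
      rw [hF, hiter, h0, map_zero, mul_zero]
  choose P hP using hpoly
  have hinj : Function.Injective fun p : Polynomial k => (p : PowerSeries k) := Polynomial.coe_injective k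
  let G : A →+* Polynomial k :=
    { toFun := P
      map_one' := hinj (by simp only [hP, map_one, Polynomial.coe_one])
      map_mul' := fun a b => hinj (by simp only [hP, map_mul, Polynomial.coe_mul])
      map_zero' := hinj (by simp only [hP, map_zero, Polynomial.coe_zero])
      map_add' := fun a b => hinj (by simp only [hP, map_add, Polynomial.coe_add]) }
  have hG : ∀ c : k, G (algebraMap k A c) = Polynomial.C c := fun c => hinj (by
    show (P _ : PowerSeries k) = ((Polynomial.C c : Polynomial k) : PowerSeries k)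
    rw [hP, RingHom.comp_apply, S8738.expHom_algebraMap, PowerSeries.map_C, Polynomial.coe_C]
    show PowerSeries.C (ε (algebraMap k A c)) = _
    rw [AlgHom.commutes, Algebra.algebraMap_self, RingHom.id_apply])
  let g : A →ₐ[k] k :=
    { (Polynomial.evalRingHom (1 : k)).comp G with
      commutes' := fun c => by
        show (G (algebraMap k A c)).eval 1 = _
        rw [hG, Polynomial.eval_C]; rfl }
  refine ⟨g, fun hg => ?_⟩
  have hex : ∃ n, ∃ a ∈ UnipHopf.K k A n, x a ≠ 0 := by
    obtain ⟨a, ha⟩ : ∃ a, x a ≠ 0 := by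
      by_contra! h
      exact hx0 (LinearMap.ext h)
    obtain ⟨n, hn⟩ := hK a
    exact ⟨n, a, hn, ha⟩
  obtain ⟨a, ha, hxa⟩ := Nat.find_spec hex
  obtain ⟨m, hm⟩ : ∃ m, Nat.find hex = m + 1 := by
    refine ⟨Nat.find hex - 1, ?_⟩
    rcases Nat.eq_zero_or_pos (Nat.find hex) with h | h
    · rw [h, UnipHopf.K_zero, Submodule.mem_bot] at ha
      exact absurd (by rw [ha, map_zero]) hxa
    · omega
  have hlow : ∀ b ∈ UnipHopf.K k A m, x b = 0 := fun b hb => by
    by_contra h
    exact Nat.find_min hex (by omega) ⟨b, hb, h⟩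
  rw [hm] at ha
  have hhigh : ∀ n : ℕ, ε (D^[n + 2] a) = 0 := fun n => by
    rw [Function.iterate_succ_apply', hεD, Function.iterate_succ_apply, hiter]
    refine hlow _ (UnipHopf.smul_mem_K _ ?_)
    rw [show D a = D^[1] a from rfl, hiter, pow_one]
    exact UnipHopf.mem_K_succ.1 ha _ hx1'
  have hPa : P a = Polynomial.C (ε a) + Polynomial.C (x a) * Polynomial.X := hinj (by
    show (P a : PowerSeries k) = _
    rw [hP]
    refine PowerSeries.ext fun n => ?_
    rw [Polynomial.coeff_coe, hF, Polynomial.coeff_add, Polynomial.coeff_C_mul_X, Polynomial.coeff_C]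
    rcases n with _ | _ | n
    · simp
    · simp [hεD]
    · rw [hhigh n]; simp)
  have hga := DFunLike.congr_fun hg a
  rw [show g a = (P a).eval 1 from rfl, hPa, Polynomial.eval_add, Polynomial.eval_C, Polynomial.eval_mul,
    Polynomial.eval_C, Polynomial.eval_X, mul_one, add_eq_left] at hga
  exact hxa hga

/-- Bivariate polynomials are separated by natural numbers. -/
theorem tensor_poly_ext [CharZero k] {z w : Polynomial k ⊗[k] Polynomial k}
    (h : ∀ m n : ℕ, Algebra.TensorProduct.lift (Polynomial.aeval (m : k)) (Polynomial.aeval (n : k))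
      (fun _ _ => Commute.all _ _) z = Algebra.TensorProduct.lift (Polynomial.aeval (m : k))
      (Polynomial.aeval (n : k)) (fun _ _ => Commute.all _ _) w) : z = w := by
  obtain ⟨p, rfl⟩ := (polyEquivTensor k (Polynomial k)).surjective z
  obtain ⟨q, rfl⟩ := (polyEquivTensor k (Polynomial k)).surjective w
  have key : ∀ (m n : ℕ) (p : Polynomial (Polynomial k)),
      Algebra.TensorProduct.lift (Polynomial.aeval (m : k)) (Polynomial.aeval (n : k))
        (fun _ _ => Commute.all _ _) (polyEquivTensor k (Polynomial k) p) = (p.eval (n : Polynomial k)).eval (m : k) := by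
    intro m n p
    induction p using Polynomial.induction_on' with
    | add p q hp hq => simp only [map_add, Polynomial.eval_add, hp, hq]
    | monomial i c =>
      have : (polyEquivTensor k (Polynomial k)).symm (c ⊗ₜ[k] (Polynomial.X ^ i)) = Polynomial.monomial i c := by
        rw [polyEquivTensor_symm_apply_tmul]
        simp [Polynomial.X_pow_eq_monomial]
      rw [← this, AlgEquiv.apply_symm_apply, this, Algebra.TensorProduct.lift_tmul, Polynomial.eval_monomial]
      simp [Polynomial.aeval_def, Polynomial.eval₂_eq_eval_map]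
  refine congrArg _ (Polynomial.eq_of_infinite_eval_eq p q ?_)
  refine Set.infinite_of_injective_forall_mem (f := fun n : ℕ => (n : Polynomial k)) Nat.cast_injective fun n => ?_
  show p.eval _ = q.eval _
  refine UnipHopf.poly_ext fun m => ?_
  rw [← key, ← key]
  exact h m n

local notation "S" => SymmetricAlgebra k k

/-- A one-parameter subgroup of a unipotent group in characteristic zero. -/
theorem exists_ga_algHom [CharZero k] [IsDomain A] (hfg : (RingHom.ker ε).FG) (hne : RingHom.ker ε ≠ ⊥)
    (hK : ∀ a : A, ∃ n, a ∈ UnipHopf.K k A n) : ∃ ψ : A →ₐc[k] S, Function.Surjective ψ := by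
  classical
  obtain ⟨x, hx0, hx1, hx⟩ := exists_derFun hfg hne
  obtain ⟨g₀, hg₀⟩ := exists_point hK hx0 hx1 hx
  let g : WithConv (A →ₐ[k] k) := toConv g₀
  obtain ⟨φ, hφ⟩ := UnipHopf.exists_path hK g
  let T : S := SymmetricAlgebra.ι k k 1
  let q : Polynomial k →ₐ[k] S := Polynomial.aeval T
  let r : S →ₐ[k] Polynomial k := SymmetricAlgebra.lift (LinearMap.toSpanSingleton k (Polynomial k) Polynomial.X)
  have hrq : r.comp q = AlgHom.id k _ := Polynomial.algHom_ext (by simp [r, q, T])
  have hqr : q.comp r = AlgHom.id k _ := SymmetricAlgebra.algHom_ext (LinearMap.ext_ring (by simp [r, q, T]))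
  let ψ₀ : A →ₐ[k] S := q.comp φ
  let ev : ℕ → (S →ₐ[k] k) := fun m => (Polynomial.aeval (m : k)).comp r
  have hevT : ∀ m, ev m T = m := fun m => by simp [ev, r, T]
  have hev : ∀ (m : ℕ) (a : A), ev m (ψ₀ a) = (g ^ m) a := fun m a => by
    show Polynomial.aeval (m : k) (r (q (φ a))) = _
    rw [show r (q (φ a)) = φ a from DFunLike.congr_fun hrq _, Polynomial.coe_aeval_eq_eval]
    exact hφ m a
  have hcounit : (Bialgebra.counitAlgHom k S).comp ψ₀ = ε := by
    have h0 : Bialgebra.counitAlgHom k S = ev 0 :=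
      SymmetricAlgebra.algHom_ext (LinearMap.ext_ring (by simp [ev, r, T, SymmetricAlgebra.algebraMapInv]))
    refine AlgHom.ext fun a => ?_
    rw [AlgHom.comp_apply, h0, hev, pow_zero]
    exact AlgHom.convOne_apply a
  have hrinj : Function.Injective (Algebra.TensorProduct.map r r) := by
    have hl : (Algebra.TensorProduct.map q q).comp (Algebra.TensorProduct.map r r) = AlgHom.id k _ := by
      rw [← Algebra.TensorProduct.map_comp, hqr, Algebra.TensorProduct.map_id]
    intro a b hab
    rw [← AlgHom.id_apply (R := k) a, ← AlgHom.id_apply (R := k) b, ← hl, AlgHom.comp_apply, hab, ← AlgHom.comp_apply]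
  have hcomul : (Algebra.TensorProduct.map ψ₀ ψ₀).comp (Bialgebra.comulAlgHom k A) =
      (Bialgebra.comulAlgHom k S).comp ψ₀ := by
    refine AlgHom.ext fun a => hrinj (tensor_poly_ext fun m n => ?_)
    let L : S ⊗[k] S →ₐ[k] k := Algebra.TensorProduct.lift (ev m) (ev n) fun _ _ => Commute.all _ _
    have hL : ∀ z, Algebra.TensorProduct.lift (Polynomial.aeval (m : k)) (Polynomial.aeval (n : k))
        (fun _ _ => Commute.all _ _) (Algebra.TensorProduct.map r r z) = L z := by
      intro z
      induction z using TensorProduct.induction_on with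
      | zero => simp
      | add z z' hz hz' => simp only [map_add, hz, hz']
      | tmul u v => simp [L, ev]
    rw [hL, hL]
    have hΔ : L.comp (Bialgebra.comulAlgHom k S) = ev (m + n) :=
      SymmetricAlgebra.algHom_ext (LinearMap.ext_ring (by
        show L (Bialgebra.comulAlgHom k S T) = ev (m + n) T
        rw [Bialgebra.comulAlgHom_apply, SymmetricAlgebra.comul_ι, map_add, hevT]
        simp [L, hevT, T]))
    show L (Algebra.TensorProduct.map ψ₀ ψ₀ _) = L (Bialgebra.comulAlgHom k S (ψ₀ a))
    rw [← AlgHom.comp_apply L (Bialgebra.comulAlgHom k S), hΔ, hev, pow_add,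
      show (g ^ m * g ^ n) a = (g ^ m * g ^ n).ofConv a from rfl, AlgHom.convMul_apply]
    show L (Algebra.TensorProduct.map ψ₀ ψ₀ (CoalgebraStruct.comul (R := k) a)) = _
    induction CoalgebraStruct.comul (R := k) a using TensorProduct.induction_on with
    | zero => simp
    | add z z' hz hz' => simp only [map_add, hz, hz']
    | tmul u v => simp [L, hev]
  refine ⟨BialgHom.ofAlgHom ψ₀ hcounit hcomul, ?_⟩
  -- surjectivity: some coefficient is linear
  let y : 𝔸 := UnipHopf.pointF g - 1
  have hex : ∃ n, ∃ a ∈ UnipHopf.K k A n, g₀ a ≠ ε a := by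
    obtain ⟨a, ha⟩ : ∃ a, g₀ a ≠ ε a := by
      by_contra! h
      exact hg₀ (AlgHom.ext h)
    obtain ⟨n, hn⟩ := hK a
    exact ⟨n, a, hn, ha⟩
  obtain ⟨a, ha, hga⟩ := Nat.find_spec hex
  obtain ⟨d, hd⟩ : ∃ d, Nat.find hex = d + 1 := by
    refine ⟨Nat.find hex - 1, ?_⟩
    rcases Nat.eq_zero_or_pos (Nat.find hex) with h | h
    · rw [h, UnipHopf.K_zero, Submodule.mem_bot] at ha
      exact absurd (by rw [ha, map_zero, map_zero]) hga
    · omega
  rw [hd] at ha
  have hlow : ∀ b ∈ UnipHopf.K k A d, g₀ b = ε b := fun b hb => by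
    by_contra h
    exact Nat.find_min hex (by omega) ⟨b, hb, h⟩
  have hy : ∀ b : A, y b = g₀ b - ε b := fun b => by
    show UnipHopf.pointF g b - (1 : 𝔸) b = _
    rw [LinearMap.convOne_apply]; rfl
  have hstep : ∀ (j : ℕ) (b : A), (g ^ (j + 1)) b = (g ^ j) b + (g ^ j) (y • b) := fun j b => by
    show UnipHopf.pointF (g ^ (j + 1)) b = UnipHopf.pointF (g ^ j) b + UnipHopf.pointF (g ^ j) (y • b)
    rw [UnipHopf.pointF_pow, pow_succ, ← UnipHopf.pointF_pow, ← ComodLib.counit_smul, mul_smul,
      ComodLib.counit_smul, sub_add_cancel (UnipHopf.pointF g) 1 |>.symm, add_smul, one_smul]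
    exact (map_add _ _ _).trans (add_comm _ _)
  have hy1 : y (1 : A) = 0 := UnipHopf.point_sub_one g
  have hK0 : ∀ (j : ℕ) (b : A), b ∈ UnipHopf.K k A d → (g ^ j) b = ε b := by
    intro j
    induction j with
    | zero => intro b _; rw [pow_zero]; exact AlgHom.convOne_apply b
    | succ j ih =>
      intro b hb
      rw [hstep, ih b hb, ih _ (UnipHopf.smul_mem_K _ hb), show ε (y • b) = y b from ComodLib.counit_smul _ _, hy,
        hlow b hb, sub_self, add_zero]
  have hlin : ∀ j : ℕ, (g ^ j) a = ε a + (j : k) * (g₀ a - ε a) := by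
    intro j
    induction j with
    | zero => rw [pow_zero, Nat.cast_zero, zero_mul, add_zero]; exact AlgHom.convOne_apply a
    | succ j ih =>
      rw [hstep, ih, hK0 j _ (UnipHopf.mem_K_succ.1 ha y hy1), show ε (y • a) = y a from ComodLib.counit_smul _ _, hy]
      push_cast
      ring
  have hφa : φ a = Polynomial.C (ε a) + Polynomial.C (g₀ a - ε a) * Polynomial.X := UnipHopf.poly_ext fun j => by
    rw [hφ, hlin, Polynomial.eval_add, Polynomial.eval_C, Polynomial.eval_mul, Polynomial.eval_C, Polynomial.eval_X,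
      mul_comm (j : k)]
  have hT : T = ψ₀ ((g₀ a - ε a)⁻¹ • (a - algebraMap k A (ε a))) := by
    rw [map_smul, map_sub, AlgHom.commutes]
    show T = _ • (q (φ a) - _)
    rw [hφa]
    simp [q, Algebra.smul_def]
    rw [← map_sub, ← mul_assoc, ← map_mul]
    erw [inv_mul_cancel₀ (sub_ne_zero.2 hga)]
    rw [map_one, one_mul]
  intro z
  refine ⟨Polynomial.aeval ((g₀ a - ε a)⁻¹ • (a - algebraMap k A (ε a))) (r z), ?_⟩
  show ψ₀ _ = z
  rw [← Polynomial.aeval_algHom_apply, ← hT]
  exact DFunLike.congr_fun hqr z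

end Groth.Agent.UnipGa
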